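import Cfsg.Agent.Base

/-!
# Arithmetic for the centralizer `GL(2,3)` theorem
-/

namespace CL.GL23

theorem arith_main (g u w : ℤ) (hu0 : u ≠ 0) (hu1 : u ≠ 1) (hwu : w - u ≠ 1)
    (e1 : g * (u - 3) ^ 2 = 4608 * (u * (u - 1)))
    (e23 : (w - 4) ^ 2 * (u * (w - u)) = (3 * w - 4 * u) ^ 2 * (w - 1)) (hw0 : w ≠ 0)
    (h32 : ¬ (32 : ℤ) ∣ g) : g = 5616 ∨ g = 7920 := by
  have h1 : w * ((w - u - 1) * ((w + 8) * (9 - u) - 72)) = 0 := by linear_combination -e23
  have h2 : (w + 8) * (9 - u) = 72 := by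
    rcases mul_eq_zero.mp h1 with h | h
    · exact absurd h hw0
    rcases mul_eq_zero.mp h with h | h
    · exact absurd (by linarith) hwu
    · linarith
  have h3 : (9 - u) ∣ 72 := Dvd.intro_left _ h2
  have h4 : 9 - u ≤ 72 := Int.le_of_dvd (by norm_num) h3
  have h5 : -(9 - u) ≤ 72 := Int.le_of_dvd (by norm_num) ((neg_dvd).mpr h3)
  have h6 : -63 ≤ u := by linarith
  have h7 : u ≤ 81 := by linarith
  clear h1 e23 h4 h5 h3 hwu hw0
  interval_cases u <;> omega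

theorem core (g a3 u a5 w a2 c3 c4 c5 c8 c2 : ℤ) (h3 : a3 = u - 1) (h5 : a5 = w - 1)
    (h2 : a2 = w - u) (ha3 : a3 ≠ 0) (hu : u ≠ 0) (ha5 : a5 ≠ 0) (hw : w ≠ 0) (ha2 : a2 ≠ 0)
    (ha2' : a2 ≠ 1) (k1 : c3 - c4 = 2) (k2 : c5 = c8) (k3 : c4 - c8 + c2 = 0)
    (k4 : c3 * c3 + c4 * c4 + c5 * c5 + c8 * c8 + c2 * c2 ≤ 6)
    (e1 : (g : ℚ) * (1 + ((2 * c3 - 2 : ℤ) : ℚ) ^ 2 / a3 - ((3 + 2 * c4 : ℤ) : ℚ) ^ 2 / u) = 4608)
    (e2 : (g : ℚ) * (1 + ((3 + 2 * c5 : ℤ) : ℚ) ^ 2 / a5 - ((2 * c8 - 4 : ℤ) : ℚ) ^ 2 / w) = 9216)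
    (e3 : (g : ℚ) * (((1 + 2 * c2 : ℤ) : ℚ) ^ 2 / a2 + ((3 + 2 * c4 : ℤ) : ℚ) ^ 2 / u -
      ((2 * c8 - 4 : ℤ) : ℚ) ^ 2 / w) = 9216)
    (h32 : ¬ (32 : ℤ) ∣ g) : g = 5616 ∨ g = 7920 := by
  subst h3 h5 h2 k2
  have q3 : ((u - 1 : ℤ) : ℚ) ≠ 0 := by exact_mod_cast ha3
  have qu : (u : ℚ) ≠ 0 := by exact_mod_cast hu
  have q5 : ((w - 1 : ℤ) : ℚ) ≠ 0 := by exact_mod_cast ha5
  have qw : (w : ℚ) ≠ 0 := by exact_mod_cast hw
  have q2 : ((w - u : ℤ) : ℚ) ≠ 0 := by exact_mod_cast ha2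
  have hg : g ≠ 0 := by rintro rfl; simp at e1
  have hc4 : -2 ≤ c4 ∧ c4 ≤ 0 := by constructor <;> nlinarith
  have hc5 : -1 ≤ c5 ∧ c5 ≤ 1 := by constructor <;> nlinarith
  obtain rfl : c3 = c4 + 2 := by linarith
  obtain rfl : c2 = c5 - c4 := by linarith
  field_simp at e1 e2 e3
  have e1' := e1
  have e2' := e2
  have e3' := e3
  norm_cast at e1' e2' e3'
  clear e1 e2 e3 q3 qu q5 qw q2
  obtain ⟨l4, r4⟩ := hc4
  obtain ⟨l5, r5⟩ := hc5
  interval_cases c4 <;> interval_cases c5 <;> norm_num at k4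
  · -- `c4 = -1`, `c5 = -1`
    exfalso
    have h : g * (w * w * ((u - 1) * (w - u - 1))) = 0 := by
      linear_combination (u * (w - u)) * e2' - (w - 1) * e3'
    simp only [mul_eq_zero] at h
    omega
  · -- `c4 = -1`, `c5 = 0`
    exfalso
    have h : g * (w * ((u - 1) * ((w + 8) * u - w * (w - 1)))) = 0 := by
      linear_combination (w - 1) * e3' - (u * (w - u)) * e2'
    have h' : (w + 8) * u = w * (w - 1) := by
      simp only [mul_eq_zero] at h
      omega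
    have h1 : g * (u - 1) = 4608 * u := by
      have : (u - 1) * (g * (u - 1) - 4608 * u) = 0 := by linear_combination e1'
      rcases mul_eq_zero.mp this with h | h
      · exact absurd h ha3
      · linarith
    have h2 : g * (w - 4) ^ 2 = 9216 * (w * (w - 1)) := by linear_combination e2'
    have h4 : w - 4 ≠ 0 := by
      intro h0
      rw [h0] at h2
      have : w = 4 := by linarith
      subst this
      norm_num at h2
    have h5 : g * u * ((w - 4) * (w + 8)) = 0 := by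
      have h6 : (w + 8) * (u - 1) = (w - 4) * (w + 2) := by linear_combination h'
      have h7 : g * ((w - 4) * (w + 2)) = 4608 * (w * (w - 1)) := by
        linear_combination (w + 8) * h1 - g * h6 + 4608 * h'
      linear_combination (2 * u) * h7 - u * h2
    simp only [mul_eq_zero] at h5
    have h8 : w = -8 := by omega
    subst h8
    omega
  · -- `c4 = 0`, `c5 = 0`
    refine arith_main g u w hu (by omega) ha2' (by linear_combination e1') ?_ hw h32
    have h : g * ((w - 4) ^ 2 * (u * (w - u)) - (3 * w - 4 * u) ^ 2 * (w - 1)) = 0 := by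
      linear_combination (u * (w - u)) * e2' - (w - 1) * e3'
    rcases mul_eq_zero.mp h with h | h
    · exact absurd h hg
    · linarith

variable {ι : Type*} [Fintype ι] [DecidableEq ι]

theorem exists_peel (b : ι → ℤ) (s : Finset ι) (n : ℤ) (hn : 0 ≤ n) (hn' : n ≤ 2)
    (h : ∑ i ∈ s, b i * b i = n + 1) :
    ∃ i ∈ s, b i * b i = 1 ∧ ∑ k ∈ s.erase i, b k * b k = n := by
  obtain ⟨i, hi, hne⟩ := Finset.exists_ne_zero_of_sum_ne_zero (s := s) (f := fun i => b i * b i)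
    (by rw [h]; omega)
  have h1 := Finset.add_sum_erase s (fun i => b i * b i) hi
  have h2 : 0 ≤ ∑ k ∈ s.erase i, b k * b k := Finset.sum_nonneg fun k _ => mul_self_nonneg _
  have h3 : b i * b i ≤ 3 := by omega
  have h4 : -1 ≤ b i ∧ b i ≤ 1 := by constructor <;> nlinarith
  have h5 : b i * b i = 1 := by
    obtain ⟨l, r⟩ := h4
    have : b i ≠ 0 := fun h => hne (by simp [h])
    interval_cases b i <;> simp_all
  exact ⟨i, hi, h5, by omega⟩

omit [Fintype ι] [DecidableEq ι] in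
theorem eq_zero_of_sum_eq_zero (b : ι → ℤ) (s : Finset ι) (h : ∑ i ∈ s, b i * b i = 0) :
    ∀ i ∈ s, b i = 0 := fun i hi =>
  mul_self_eq_zero.mp
    ((Finset.sum_eq_zero_iff_of_nonneg fun k _ => mul_self_nonneg (b k)).mp h i hi)

/-- `b` is supported on three distinct points and has square `1` at the last two. -/
def Supp (b : ι → ℤ) (o i j : ι) : Prop :=
  o ≠ i ∧ o ≠ j ∧ i ≠ j ∧ b i * b i = 1 ∧ b j * b j = 1 ∧ ∀ k, k ≠ o → k ≠ i → k ≠ j → b k = 0

omit [Fintype ι] [DecidableEq ι] in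
theorem Supp.symm {b : ι → ℤ} {o i j : ι} (h : Supp b o i j) : Supp b o j i :=
  ⟨h.2.1, h.1, h.2.2.1.symm, h.2.2.2.2.1, h.2.2.2.1, fun k a b c => h.2.2.2.2.2 k a c b⟩

theorem exists_supp {b : ι → ℤ} {o : ι} (ho : b o * b o = 1) (h : ∑ i, b i * b i = 3) :
    ∃ i j, Supp b o i j := by
  have h1 := Finset.add_sum_erase Finset.univ (fun i => b i * b i) (Finset.mem_univ o)
  obtain ⟨i, hi, hbi, h2⟩ := exists_peel b (Finset.univ.erase o) 1 (by norm_num) (by norm_num)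
    (by omega)
  obtain ⟨j, hj, hbj, h3⟩ := exists_peel b ((Finset.univ.erase o).erase i) 0 le_rfl (by norm_num)
    (by simpa using h2)
  simp only [Finset.mem_erase, Finset.mem_univ, and_true] at hi hj
  exact ⟨i, j, hi.symm, hj.2.symm, hj.1.symm, hbi, hbj, fun k h1 h2 h4 =>
    eq_zero_of_sum_eq_zero b _ h3 k (by simp [h1, h2, h4])⟩

theorem Supp.sum {R : Type*} [AddCommMonoid R] {b : ι → ℤ} {o i j : ι} (h : Supp b o i j)
    (f : ι → R) (hf : ∀ k, b k = 0 → f k = 0) : ∑ k, f k = f o + f i + f j := by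
  rw [← Finset.sum_subset (Finset.subset_univ {o, i, j}) fun k _ hk => hf k (by
    simp only [Finset.mem_insert, Finset.mem_singleton, not_or] at hk
    exact h.2.2.2.2.2 k hk.1 hk.2.1 hk.2.2)]
  rw [Finset.sum_insert (by simp [h.1, h.2.1]), Finset.sum_pair h.2.2.1, add_assoc]

theorem sum_sq_le (b : ι → ℤ) (s : Finset ι) : ∑ i ∈ s, b i * b i ≤ ∑ i, b i * b i :=
  Finset.sum_le_sum_of_subset_of_nonneg (Finset.subset_univ s) fun k _ _ => mul_self_nonneg _

theorem sq_cases {x : ℤ} (h : x * x = 1) : x = 1 ∨ x = -1 := mul_self_eq_one_iff.mp h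

/-- The numerical data obtained from the four induced generalized characters. -/
structure Data (o : ι) (b1 b2 b3 b4 d : ι → ℤ) (g : ℤ) : Prop where
  hd : ∀ i, i ≠ o → 2 ≤ d i
  hdo : d o = 1
  h1o : b1 o = 1
  h2o : b2 o = 1
  h3o : b3 o = 0
  h4o : b4 o = 0
  h11 : ∑ i, b1 i * b1 i = 3
  h22 : ∑ i, b2 i * b2 i = 3
  h33 : ∑ i, b3 i * b3 i = 3
  h44 : ∑ i, b4 i * b4 i = 6
  h12 : ∑ i, b1 i * b2 i = 1
  h13 : ∑ i, b1 i * b3 i = -1
  h14 : ∑ i, b1 i * b4 i = 2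
  h23 : ∑ i, b2 i * b3 i = 1
  h24 : ∑ i, b2 i * b4 i = 0
  h34 : ∑ i, b3 i * b4 i = 0
  d1 : ∑ i, b1 i * d i = 0
  d2 : ∑ i, b2 i * d i = 0
  d3 : ∑ i, b3 i * d i = 0
  e1 : (g : ℚ) * ∑ i, (b1 i : ℚ) *
    (((-2 * b1 i + 3 * b2 i + b3 i + 2 * b4 i : ℤ) : ℚ) ^ 2 / d i) = 4608
  e2 : (g : ℚ) * ∑ i, (b2 i : ℚ) *
    (((-2 * b1 i + 3 * b2 i + b3 i + 2 * b4 i : ℤ) : ℚ) ^ 2 / d i) = 9216
  e3 : (g : ℚ) * ∑ i, (b3 i : ℚ) *
    (((-2 * b1 i + 3 * b2 i + b3 i + 2 * b4 i : ℤ) : ℚ) ^ 2 / d i) = 9216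

theorem signed_term {ε x d : ℤ} (h : ε * ε = 1) (y : ℤ) (hy : y = ε * x) :
    (ε : ℚ) * ((x : ℚ) ^ 2 / d) = (y : ℚ) ^ 2 / ((ε * d : ℤ) : ℚ) := by
  subst hy
  rcases sq_cases h with rfl | rfl
  · simp
  · push_cast
    rw [neg_one_mul, neg_one_mul, neg_one_mul, neg_sq, div_neg]

theorem signed_term' {ε x d : ℤ} (h : ε * ε = 1) (y : ℤ) (hy : y = -ε * x) :
    (ε : ℚ) * ((x : ℚ) ^ 2 / d) = -((y : ℚ) ^ 2 / ((-ε * d : ℤ) : ℚ)) := by
  rw [← signed_term (by simpa using h) y hy]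
  push_cast
  ring

variable {o : ι} {b1 b2 b3 b4 d : ι → ℤ} {g : ℤ}

theorem Data.disjoint (D : Data o b1 b2 b3 b4 d g) {i j k l : ι} (s1 : Supp b1 o i j)
    (s2 : Supp b2 o k l) : b2 i = 0 ∧ b2 j = 0 := by
  have h12 := D.h12
  rw [s1.sum _ (fun k h => by simp [h]), D.h1o, D.h2o] at h12
  have d1 := D.d1
  rw [s1.sum _ (fun k h => by simp [h]), D.h1o, D.hdo] at d1
  have d2 := D.d2
  rw [s2.sum _ (fun k h => by simp [h]), D.h2o, D.hdo] at d2
  have hi := D.hd i s1.1.symm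
  have hj := D.hd j s1.2.1.symm
  have a1 := sq_cases s1.2.2.2.1
  have a2 := sq_cases s1.2.2.2.2.1
  have a3 := sq_cases s2.2.2.2.1
  have a4 := sq_cases s2.2.2.2.2.1
  have z := s2.2.2.2.2.2
  by_cases hik : i = k
  · subst hik
    by_cases hjl : j = l
    · subst hjl
      rcases a1 with a1 | a1 <;> rcases a2 with a2 | a2 <;> rcases a3 with a3 | a3 <;>
        rcases a4 with a4 | a4 <;> simp only [a1, a2, a3, a4] at h12 d1 d2 <;> omega
    · have := z j s1.2.1.symm s1.2.2.1.symm hjl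
      rcases a1 with a1 | a1 <;> rcases a3 with a3 | a3 <;>
        simp only [a1, a3, this] at h12 <;> omega
  by_cases hil : i = l
  · subst hil
    by_cases hjk : j = k
    · subst hjk
      rcases a1 with a1 | a1 <;> rcases a2 with a2 | a2 <;> rcases a3 with a3 | a3 <;>
        rcases a4 with a4 | a4 <;> simp only [a1, a2, a3, a4] at h12 d1 d2 <;> omega
    · have := z j s1.2.1.symm hjk s1.2.2.1.symm
      rcases a1 with a1 | a1 <;> rcases a4 with a4 | a4 <;>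
        simp only [a1, a4, this] at h12 <;> omega
  have h0 := z i s1.1.symm hik hil
  refine ⟨h0, ?_⟩
  rcases a2 with a2 | a2 <;> simp only [a2, h0] at h12 <;> omega

theorem Data.main (D : Data o b1 b2 b3 b4 d g) {i j k l : ι} (s1 : Supp b1 o i j)
    (s2 : Supp b2 o k l) (h3i : b3 i = 0) (h3k : b3 k = 0) (h32 : ¬ (32 : ℤ) ∣ g) :
    g = 5616 ∨ g = 7920 := by
  obtain ⟨h2i, h2j⟩ := D.disjoint s1 s2
  have q1 := s1.2.2.2.1
  have q2 := s1.2.2.2.2.1
  have q3 := s2.2.2.2.1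
  have q4 := s2.2.2.2.2.1
  have hik : i ≠ k := fun h => by simp [← h, h2i] at q3
  have hil : i ≠ l := fun h => by simp [← h, h2i] at q4
  have hjk : j ≠ k := fun h => by simp [← h, h2j] at q3
  have hjl : j ≠ l := fun h => by simp [← h, h2j] at q4
  have h1k : b1 k = 0 := s1.2.2.2.2.2 k s2.1.symm hik.symm hjk.symm
  have h1l : b1 l = 0 := s1.2.2.2.2.2 l s2.2.1.symm hil.symm hjl.symm
  have h13 := D.h13
  rw [s1.sum _ (fun k h => by simp [h]), D.h3o, h3i] at h13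
  have h23 := D.h23
  rw [s2.sum _ (fun k h => by simp [h]), D.h3o, h3k] at h23
  have h3j : b3 j = -b1 j := by linear_combination b1 j * h13 - b3 j * q2
  have h3l : b3 l = b2 l := by linear_combination b2 l * h23 - b3 l * q4
  obtain ⟨m, hm, q5, hrest⟩ := exists_peel b3 ((Finset.univ.erase j).erase l) 0 le_rfl
    (by norm_num) (by
      have a := Finset.add_sum_erase Finset.univ (fun i => b3 i * b3 i) (Finset.mem_univ j)
      have b := Finset.add_sum_erase (Finset.univ.erase j) (fun i => b3 i * b3 i)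
        (a := l) (by simp [hjl.symm])
      simp only [D.h33, h3j, h3l, neg_mul_neg, q2, q4] at a b
      omega)
  simp only [Finset.mem_erase, Finset.mem_univ, and_true] at hm
  have s3 : Supp b3 m j l := ⟨hm.2, hm.1, hjl, by rw [h3j, neg_mul_neg, q2], by rw [h3l, q4],
    fun n h1 h2 h3 => eq_zero_of_sum_eq_zero b3 _ hrest n (by simp [h1, h2, h3])⟩
  have hmo : m ≠ o := fun h => by simp [h, D.h3o] at q5
  have hmi : m ≠ i := fun h => by simp [h, h3i] at q5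
  have hmk : m ≠ k := fun h => by simp [h, h3k] at q5
  have h1m : b1 m = 0 := s1.2.2.2.2.2 m hmo hmi hm.2
  have h2m : b2 m = 0 := s2.2.2.2.2.2 m hmo hmk hm.1
  have d1 := D.d1
  rw [s1.sum _ (fun k h => by simp [h]), D.h1o, D.hdo] at d1
  have d2 := D.d2
  rw [s2.sum _ (fun k h => by simp [h]), D.h2o, D.hdo] at d2
  have d3 := D.d3
  rw [s3.sum _ (fun k h => by simp [h]), h3j, h3l] at d3
  have h14 := D.h14
  rw [s1.sum _ (fun k h => by simp [h]), D.h4o] at h14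
  have h24 := D.h24
  rw [s2.sum _ (fun k h => by simp [h]), D.h4o] at h24
  have h34 := D.h34
  rw [s3.sum _ (fun k h => by simp [h]), h3j, h3l] at h34
  have h44 := sum_sq_le b4 {i, j, k, l, m}
  rw [D.h44, Finset.sum_insert (by simp [s1.2.2.1, hik, hil, hmi.symm]),
    Finset.sum_insert (by simp [hjk, hjl, hm.2.symm]),
    Finset.sum_insert (by simp [s2.2.2.1, hmk.symm]), Finset.sum_pair hm.1.symm] at h44
  have e1 := D.e1
  rw [s1.sum _ (fun k h => by simp [h]), D.h1o, D.h2o, D.h3o, D.h4o, D.hdo,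
    signed_term q1 (2 * (b1 i * b4 i) - 2) (by rw [h2i, h3i]; linear_combination 2 * q1),
    signed_term' q2 (3 + 2 * (-b1 j * b4 j)) (by rw [h2j, h3j]; linear_combination -3 * q2)] at e1
  have e2 := D.e2
  rw [s2.sum _ (fun k h => by simp [h]), D.h1o, D.h2o, D.h3o, D.h4o, D.hdo,
    signed_term q3 (3 + 2 * (b2 k * b4 k)) (by rw [h1k, h3k]; linear_combination -3 * q3),
    signed_term' q4 (2 * (-b2 l * b4 l) - 4) (by rw [h1l, h3l]; linear_combination 4 * q4)] at e2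
  have e3 := D.e3
  rw [s3.sum _ (fun k h => by simp [h]),
    signed_term q5 (1 + 2 * (b3 m * b4 m)) (by rw [h1m, h2m]; linear_combination -q5),
    signed_term s3.2.2.2.1 (3 + 2 * (-b1 j * b4 j))
      (by rw [h2j, h3j]; linear_combination -3 * q2),
    signed_term' s3.2.2.2.2.1 (2 * (-b2 l * b4 l) - 4)
      (by rw [h1l, h3l]; linear_combination 4 * q4), h3j, h3l] at e3
  have nz : ∀ {ε : ℤ} {n : ι}, ε * ε = 1 → n ≠ o → ε * d n ≠ 0 ∧ ε * d n ≠ 1 := by
    intro ε n h hn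
    have := D.hd n hn
    rcases sq_cases h with rfl | rfl <;> omega
  refine core g (b1 i * d i) (-b1 j * d j) (b2 k * d k) (-b2 l * d l) (b3 m * d m) (b1 i * b4 i)
    (-b1 j * b4 j) (b2 k * b4 k) (-b2 l * b4 l) (b3 m * b4 m) (by linarith) (by linarith)
    (by linarith) (nz q1 s1.1.symm).1 (nz (by simpa using q2) s1.2.1.symm).1 (nz q3 s2.1.symm).1
    (nz (by simpa using q4) s2.2.1.symm).1 (nz q5 hmo).1 (nz q5 hmo).2 (by linarith) (by linarith)
    (by linarith) ?_ (by rw [← e1]; norm_num; left; ring) (by rw [← e2]; norm_num; left; ring)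
    (by rw [← e3, sub_eq_add_neg]) h32
  calc _ = b4 i * b4 i * (b1 i * b1 i) + b4 j * b4 j * (b1 j * b1 j) + b4 k * b4 k * (b2 k * b2 k)
      + b4 l * b4 l * (b2 l * b2 l) + b4 m * b4 m * (b3 m * b3 m) := by ring
    _ ≤ 6 := by rw [q1, q2, q3, q4, q5]; linarith

theorem Data.card (D : Data o b1 b2 b3 b4 d g) (h32 : ¬ (32 : ℤ) ∣ g) :
    g = 5616 ∨ g = 7920 := by
  obtain ⟨i, j, s1⟩ := exists_supp (b := b1) (o := o) (by rw [D.h1o]; rfl) D.h11
  obtain ⟨k, l, s2⟩ := exists_supp (b := b2) (o := o) (by rw [D.h2o]; rfl) D.h22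
  obtain ⟨h2i, h2j⟩ := D.disjoint s1 s2
  have q3 := s2.2.2.2.1
  have q4 := s2.2.2.2.2.1
  have hik : i ≠ k := fun h => by simp [← h, h2i] at q3
  have hil : i ≠ l := fun h => by simp [← h, h2i] at q4
  have hjk : j ≠ k := fun h => by simp [← h, h2j] at q3
  have hjl : j ≠ l := fun h => by simp [← h, h2j] at q4
  have h13 := D.h13
  rw [s1.sum _ (fun k h => by simp [h]), D.h3o] at h13
  have h23 := D.h23
  rw [s2.sum _ (fun k h => by simp [h]), D.h3o] at h23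
  have h33 := sum_sq_le b3 {i, j, k, l}
  rw [D.h33, Finset.sum_insert (by simp [s1.2.2.1, hik, hil]),
    Finset.sum_insert (by simp [hjk, hjl]), Finset.sum_pair s2.2.2.1] at h33
  have key : ∀ {x y ε δ r : ℤ}, ε * ε = 1 → δ * δ = 1 → r * r = 1 → ε * x + δ * y = r →
      x * x + y * y ≤ 3 → x = 0 ∨ y = 0 := by
    intro x y ε δ r h1 h2 h3 h4 h5
    have hx : -1 ≤ x ∧ x ≤ 1 := by constructor <;> nlinarith [mul_self_nonneg y]
    have hy : -1 ≤ y ∧ y ≤ 1 := by constructor <;> nlinarith [mul_self_nonneg x]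
    rcases sq_cases h1 with rfl | rfl <;> rcases sq_cases h2 with rfl | rfl <;>
      rcases sq_cases h3 with rfl | rfl <;> omega
  have k1 := key (r := -1) s1.2.2.2.1 s1.2.2.2.2.1 rfl (by linarith : _ * b3 i + _ * b3 j = _)
    (by nlinarith [mul_self_nonneg (b3 k), mul_self_nonneg (b3 l)])
  have k2 := key (r := 1) q3 q4 rfl (by linarith : _ * b3 k + _ * b3 l = _)
    (by nlinarith [mul_self_nonneg (b3 i), mul_self_nonneg (b3 j)])
  rcases k1 with k1 | k1 <;> rcases k2 with k2 | k2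
  · exact D.main s1 s2 k1 k2 h32
  · exact D.main s1 s2.symm k1 k2 h32
  · exact D.main s1.symm s2 k1 k2 h32
  · exact D.main s1.symm s2.symm k1 k2 h32

end CL.GL23
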