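import Cfsg.Agent.Char.InduceChar

/-!
# A computable model of `GL(2,3)` and four of its generalized characters
-/

namespace CL.GL23

open Cfsg CL.Char

/-- Invertible `2 × 2` matrices over `ZMod 3`, as quadruples. -/
def M : Type := {q : ZMod 3 × ZMod 3 × ZMod 3 × ZMod 3 // q.1 * q.2.2.2 - q.2.1 * q.2.2.1 ≠ 0}

namespace M

instance instDecidableEq : DecidableEq M :=
  inferInstanceAs (DecidableEq {q : ZMod 3 × ZMod 3 × ZMod 3 × ZMod 3 //
    q.1 * q.2.2.2 - q.2.1 * q.2.2.1 ≠ 0})

instance instFintype : Fintype M :=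
  inferInstanceAs (Fintype {q : ZMod 3 × ZMod 3 × ZMod 3 × ZMod 3 //
    q.1 * q.2.2.2 - q.2.1 * q.2.2.1 ≠ 0})

def a (g : M) : ZMod 3 := g.1.1
def b (g : M) : ZMod 3 := g.1.2.1
def c (g : M) : ZMod 3 := g.1.2.2.1
def d (g : M) : ZMod 3 := g.1.2.2.2
def det (g : M) : ZMod 3 := g.a * g.d - g.b * g.c
def tr (g : M) : ZMod 3 := g.a + g.d

theorem ext {g h : M} (h1 : g.a = h.a) (h2 : g.b = h.b) (h3 : g.c = h.c) (h4 : g.d = h.d) :
    g = h :=
  Subtype.ext (Prod.ext h1 (Prod.ext h2 (Prod.ext h3 h4)))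

theorem mul_ne_zero' : ∀ x y : ZMod 3, x ≠ 0 → y ≠ 0 → x * y ≠ 0 := by decide

theorem mul_self_eq : ∀ x : ZMod 3, x ≠ 0 → x * x = 1 := by decide

def mk (a b c d : ZMod 3) (h : a * d - b * c ≠ 0) : M := ⟨(a, b, c, d), h⟩

def mul (g h : M) : M :=
  mk (g.a * h.a + g.b * h.c) (g.a * h.b + g.b * h.d) (g.c * h.a + g.d * h.c)
    (g.c * h.b + g.d * h.d) (by
      have := mul_ne_zero' g.det h.det g.2 h.2
      convert this using 1
      simp only [det]; ring)

def inv (g : M) : M :=
  mk (g.det * g.d) (-(g.det * g.b)) (-(g.det * g.c)) (g.det * g.a) (by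
    have := mul_ne_zero' _ _ (mul_ne_zero' g.det g.det g.2 g.2) g.2
    convert this using 1
    simp only [det, a, b, c, d]; ring)

instance instMul : Mul M := ⟨mul⟩
instance instOne : One M := ⟨mk 1 0 0 1 (by decide)⟩
instance instInv : Inv M := ⟨inv⟩

theorem mul_a (g h : M) : (g * h).a = g.a * h.a + g.b * h.c := rfl
theorem mul_b (g h : M) : (g * h).b = g.a * h.b + g.b * h.d := rfl
theorem mul_c (g h : M) : (g * h).c = g.c * h.a + g.d * h.c := rfl
theorem mul_d (g h : M) : (g * h).d = g.c * h.b + g.d * h.d := rfl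

instance instGroup : Group M :=
  Group.ofLeftAxioms
    (fun g h k => ext (by simp only [mul_a, mul_b, mul_c]; ring)
      (by simp only [mul_a, mul_b, mul_d]; ring) (by simp only [mul_a, mul_c, mul_d]; ring)
      (by simp only [mul_b, mul_c, mul_d]; ring))
    (by decide +kernel) (by decide +kernel)

/-- The central involution. -/
def z : M := mk (-1) 0 0 (-1) (by decide)

/-- An element of order `8`. -/
def x : M := mk 0 1 1 1 (by decide)

end M

open M

/-- The identification with `GL(2,3)`. -/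
def ofGL : Matrix.GeneralLinearGroup (Fin 2) (ZMod 3) →* M where
  toFun g := M.mk (g 0 0) (g 0 1) (g 1 0) (g 1 1) (by
    have h := (Matrix.GeneralLinearGroup.det g).isUnit
    rw [Matrix.GeneralLinearGroup.val_det_apply, Matrix.det_fin_two] at h
    intro h0
    rw [h0] at h
    exact absurd h (by decide))
  map_one' := by
    refine M.ext ?_ ?_ ?_ ?_ <;> rfl
  map_mul' g h := by
    refine M.ext ?_ ?_ ?_ ?_ <;>
      simp [mul_a, mul_b, mul_c, mul_d, M.a, M.b, M.c, M.d, M.mk, Matrix.mul_apply,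
        Fin.sum_univ_two] <;> rfl

theorem ofGL_bijective : Function.Bijective ofGL := by
  constructor
  · intro g h e
    ext i j
    have h1 := congrArg M.a e
    have h2 := congrArg M.b e
    have h3 := congrArg M.c e
    have h4 := congrArg M.d e
    fin_cases i <;> fin_cases j
    exacts [h1, h2, h3, h4]
  · intro g
    have k := M.mul_self_eq g.det g.2
    refine ⟨⟨!![g.a, g.b; g.c, g.d], !![g.det * g.d, -(g.det * g.b); -(g.det * g.c), g.det * g.a],
      ?_, ?_⟩, M.ext rfl rfl rfl rfl⟩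
    all_goals
      ext i j
      simp only [M.det] at k
      fin_cases i <;> fin_cases j <;> simp [Matrix.mul_apply, Fin.sum_univ_two, M.det] <;>
        first | linear_combination k | ring

noncomputable def equivGL : Matrix.GeneralLinearGroup (Fin 2) (ZMod 3) ≃* M :=
  MulEquiv.ofBijective ofGL ofGL_bijective

theorem card_M : Nat.card M = 48 := by
  rw [Nat.card_eq_fintype_card]; decide +kernel

/-! ### Permutation characters -/

theorem gen_count {K : Type*} [Group K] [Fintype K] (B : Subgroup K) [DecidablePred (· ∈ B)]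
    (f : K → ℤ)
    (h : ∀ g, ((Finset.univ.filter fun y : K => y⁻¹ * g * y ∈ B).card : ℤ) =
      (Finset.univ.filter fun y : K => y ∈ B).card * f g) :
    IsGeneralizedCharacter K fun g => (f g : ℂ) := by
  have h1 := gen_indFun B (gen_of_irr (irr_one (G := B)))
  convert h1 using 2 with g
  rw [indFun_apply]
  have h2 : ∀ y : K, extendByZero B (fun _ => (1 : ℂ)) y = if y ∈ B then 1 else 0 := fun y => by
    rw [extendByZero_apply]; split_ifs <;> rfl
  have h3 : (Nat.card B : ℂ) = ((Finset.univ.filter fun y : K => y ∈ B).card : ℂ) := by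
    rw [Nat.card_eq_fintype_card, Fintype.card_subtype]
  have h4 := congrArg (Int.cast : ℤ → ℂ) (h g)
  push_cast at h4
  simp_rw [h2]
  rw [Finset.sum_boole, h4, ← h3, inv_mul_cancel_left₀ (natCard_cast_ne_zero B)]

def sub2 : Subgroup M where
  carrier := {g | g.det = 1}
  mul_mem' := by
    have : ∀ g h : M, g.det = 1 → h.det = 1 → (g * h).det = 1 := by decide +kernel
    exact fun {g h} => this g h
  one_mem' := by decide
  inv_mem' := by
    have : ∀ g : M, g.det = 1 → (g⁻¹).det = 1 := by decide +kernel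
    exact fun {g} => this g

def sub4 : Subgroup M where
  carrier := {g | g.c = 0}
  mul_mem' := by
    have : ∀ g h : M, g.c = 0 → h.c = 0 → (g * h).c = 0 := by decide +kernel
    exact fun {g h} => this g h
  one_mem' := by decide
  inv_mem' := by
    have : ∀ g : M, g.c = 0 → (g⁻¹).c = 0 := by decide +kernel
    exact fun {g} => this g

def sub8 : Subgroup M where
  carrier := {g | g.a = 1 ∧ g.c = 0}
  mul_mem' := by
    have : ∀ g h : M, g.a = 1 ∧ g.c = 0 → h.a = 1 ∧ h.c = 0 → (g * h).a = 1 ∧ (g * h).c = 0 := by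
      decide +kernel
    exact fun {g h} => this g h
  one_mem' := by decide
  inv_mem' := by
    have : ∀ g : M, g.a = 1 ∧ g.c = 0 → (g⁻¹).a = 1 ∧ (g⁻¹).c = 0 := by decide +kernel
    exact fun {g} => this g

instance decSub2 : DecidablePred (· ∈ sub2) := fun g => inferInstanceAs (Decidable (g.det = 1))
instance decSub4 : DecidablePred (· ∈ sub4) := fun g => inferInstanceAs (Decidable (g.c = 0))
instance decSub8 : DecidablePred (· ∈ sub8) :=
  fun g => inferInstanceAs (Decidable (g.a = 1 ∧ g.c = 0))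

/-- A class function given by its values on the classes `1, z, 4, 3, 6, 2, 8`. -/
def tab (v1 vz v4 v3 v6 v2 v8 : ℤ) (g : M) : ℤ :=
  if g = 1 then v1 else if g = z then vz else
    if g.det = 1 then (if g.tr = 0 then v4 else if g.tr = 1 then v6 else v3)
    else if g.tr = 0 then v2 else v8

def p2 : M → ℤ := tab 2 2 2 2 2 0 0
def p4 : M → ℤ := tab 4 4 0 1 1 2 0
def p8 : M → ℤ := tab 8 0 0 2 0 2 0

theorem gen_p2 : IsGeneralizedCharacter M fun g => (p2 g : ℂ) :=
  gen_count sub2 p2 (by decide +kernel)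

theorem gen_p4 : IsGeneralizedCharacter M fun g => (p4 g : ℂ) :=
  gen_count sub4 p4 (by decide +kernel)

theorem gen_p8 : IsGeneralizedCharacter M fun g => (p8 g : ℂ) :=
  gen_count sub8 p8 (by decide +kernel)

/-- Integer-valued functions which are generalized characters. -/
def Gen (f : M → ℤ) : Prop := IsGeneralizedCharacter M fun g => (f g : ℂ)

theorem Gen.one : Gen fun _ => 1 := by
  simpa [Gen] using gen_of_irr (irr_one (G := M))

theorem Gen.add {f f' : M → ℤ} (h : Gen f) (h' : Gen f') : Gen fun g => f g + f' g := by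
  have := gen_add h h'
  simp only [Gen]
  push_cast
  exact this

theorem Gen.sub {f f' : M → ℤ} (h : Gen f) (h' : Gen f') : Gen fun g => f g - f' g := by
  have := gen_sub h h'
  simp only [Gen]
  push_cast
  exact this

theorem Gen.mul {f f' : M → ℤ} (h : Gen f) (h' : Gen f') : Gen fun g => f g * f' g := by
  have := gen_mul h h'
  simp only [Gen]
  push_cast
  exact this

theorem Gen.congr {f f' : M → ℤ} (h : Gen f) (e : ∀ g, f' g = f g) : Gen f' := by
  rwa [funext e]

def chi2 : M → ℤ := tab 1 1 1 1 1 (-1) (-1)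
def chi3 : M → ℤ := tab 2 2 2 (-1) (-1) 0 0
def chi4 : M → ℤ := tab 3 3 (-1) 0 0 1 (-1)
def chi5 : M → ℤ := tab 3 3 (-1) 0 0 (-1) 1
def chi8 : M → ℤ := tab 4 (-4) 0 1 (-1) 0 0

theorem gen_chi2 : Gen chi2 := (Gen.sub gen_p2 Gen.one).congr (by decide +kernel)
theorem gen_chi4 : Gen chi4 := (Gen.sub gen_p4 Gen.one).congr (by decide +kernel)
theorem gen_chi8 : Gen chi8 := (Gen.sub gen_p8 gen_p4).congr (by decide +kernel)
theorem gen_chi5 : Gen chi5 := (Gen.mul gen_chi2 gen_chi4).congr (by decide +kernel)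
theorem gen_chi3 : Gen chi3 :=
  ((((Gen.mul gen_chi4 gen_chi4).sub Gen.one).sub gen_chi4).sub gen_chi5).congr
    (by decide +kernel)

/-- The four generalized characters vanishing outside the roots of `z`. -/
def th : Fin 4 → M → ℤ :=
  ![tab 0 0 4 0 0 0 2, tab 0 8 0 0 2 0 2, tab 0 8 0 0 2 0 (-2), tab 0 8 4 0 (-4) 0 0]

theorem gen_th (i : Fin 4) : Gen (th i) := by
  fin_cases i
  · exact ((Gen.one.add gen_chi3).sub gen_chi4).congr (by decide +kernel)
  · exact ((Gen.one.add gen_chi5).sub gen_chi8).congr (by decide +kernel)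
  · exact ((gen_chi2.add gen_chi4).sub gen_chi8).congr (by decide +kernel)
  · exact ((((gen_chi3.add gen_chi3).sub (gen_chi4.mul gen_chi8)).add gen_chi8).add
      gen_chi8).congr (by decide +kernel)

/-- The Gram matrix. -/
def gram : Fin 4 → Fin 4 → ℤ := ![![3, 1, -1, 2], ![1, 3, 1, 0], ![-1, 1, 3, 0], ![2, 0, 0, 6]]

theorem sum_th_mul : ∀ i j : Fin 4, ∑ g, th i g * th j g = 48 * gram i j := by decide +kernel

theorem sum_th : ∀ i : Fin 4, ∑ g, th i g = 48 * ![1, 1, 0, 0] i := by decide +kernel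

theorem th_comb : ∀ g : M, -2 * th 0 g + 3 * th 1 g + th 2 g + 2 * th 3 g =
    if g = z then 48 else 0 := by decide +kernel

theorem sum_invol : ∀ i : Fin 4, (∑ u : M, ∑ v : M,
    if (u * u = 1 ∧ u ≠ 1) ∧ (v * v = 1 ∧ v ≠ 1) then th i (u * v) else 0) =
      ![96, 192, 192, 0] i := by decide +kernel

/-- The roots of the central involution. -/
def Root (g : M) : Prop := ∃ k : Fin 5, g ^ (k : ℕ) = z

instance decRoot : DecidablePred Root := fun g =>
  inferInstanceAs (Decidable (∃ k : Fin 5, g ^ (k : ℕ) = z))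

theorem th_eq_zero : ∀ (i : Fin 4) (g : M), ¬ Root g → th i g = 0 := by decide +kernel

theorem th_one : ∀ i : Fin 4, th i 1 = 0 := by decide +kernel

theorem root_pow : ∀ g : M, Root g → ∀ k : Fin 5, g ^ (k : ℕ) * g ^ (k : ℕ) = 1 →
    g ^ (k : ℕ) = 1 ∨ g ^ (k : ℕ) = z := by decide +kernel

theorem central_eq : ∀ g : M, (∀ h, h * g = g * h) → g = 1 ∨ g = z := by decide +kernel

theorem pow_four_eq : ∀ g : M, g ^ 8 = 1 → g ^ 4 ≠ 1 → g ^ 4 = z := by decide +kernel

theorem x_pow_four : x ^ 4 = z := by decide +kernel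

theorem z_ne_one : z ≠ 1 := by decide +kernel

theorem z_mul_z : z * z = 1 := by decide +kernel

theorem eq_of_commute_x : ∀ g : M, g * g = 1 → g * x = x * g → g = 1 ∨ g = z := by
  decide +kernel

end CL.GL23
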